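import Mathlib
import Cfsg.Agent.Lib.Helper50.HUPT.Defs
import Cfsg.Agent.Lib.Helper15.HUPT.XM

/-!
# HUPT (S3360), package [E26], part (A)

For `|V| = 64` under (NI): every normal abelian subgroup `A` has order `1`, `3` or `7`, and the
field `KA ρ A` has `4` resp. `8` elements when `|A| = 3` resp. `7`.
Also: tools on the "field" subalgebras (`g ^ (|K| - 1) = 1` when `toE ρ g ∈ K`).
-/

set_option autoImplicit false

universe u v

namespace Cfsg.Agent.Lib.Helper15.HUPT

open Cfsg.Agent.Lib.Helper50.HUPT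
open Cfsg.Agent.Lib.Helper49.HUP (Irr)

/-- Fermat's little theorem in a finite commutative ring which is a field. -/
theorem pow_card_sub_one_of_isField {R : Type*} [Ring R] [Finite R] (hF : IsField R) (a : R)
    (ha : a ≠ 0) : a ^ (Nat.card R - 1) = 1 := by
  classical
  let _ := hF.toField
  let _ := Fintype.ofFinite R
  have h := FiniteField.pow_card_sub_one_eq_one a ha
  rw [Nat.card_eq_fintype_card]
  exact h

section tools

variable {q : ℕ} [Fact q.Prime] {V : Type u} [AddCommGroup V] [Module (ZMod q) V]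
  {G : Type v} [Group G]

theorem toE_one (ρ : G →* (V ≃ₗ[ZMod q] V)) : toE ρ 1 = 1 := by
  ext v
  simp [toE]

theorem toE_pow (ρ : G →* (V ≃ₗ[ZMod q] V)) (a : G) (n : ℕ) :
    toE ρ (a ^ n) = toE ρ a ^ n := by
  induction n with
  | zero => rw [pow_zero, pow_zero, toE_one]
  | succ n ih => rw [pow_succ, pow_succ, toE_mul, ih]

theorem toE_ne_zero [Nontrivial V] (ρ : G →* (V ≃ₗ[ZMod q] V)) (g : G) : toE ρ g ≠ 0 := by
  intro h0
  obtain ⟨v, hv⟩ := exists_ne (0 : V)
  have h1 : ρ g v = 0 := by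
    have := congrArg (fun f : Module.End (ZMod q) V => f v) h0
    simpa [toE] using this
  exact hv ((LinearEquiv.map_eq_zero_iff _).mp h1)

/-- a commutative subalgebra with all non-zero elements injective is a field -/
theorem isField_of_isFld [Finite V] [Nontrivial V]
    (K : Subalgebra (ZMod q) (Module.End (ZMod q) V)) (hK : IsFld K) : IsField K := by
  obtain ⟨hcomm, hinj⟩ := hK
  have hfinE : Finite (Module.End (ZMod q) V) :=
    Finite.of_injective (fun f : Module.End (ZMod q) V => (f : V → V)) DFunLike.coe_injective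
  have hfinK : Finite K := Finite.of_injective (fun f : K => (f : Module.End (ZMod q) V))
    Subtype.val_injective
  refine ⟨⟨0, 1, ?_⟩, ?_, ?_⟩
  · intro h
    obtain ⟨v, hv⟩ := exists_ne (0 : V)
    have h1 : ((0 : K) : Module.End (ZMod q) V) v = ((1 : K) : Module.End (ZMod q) V) v := by
      rw [h]
    simp at h1
    exact hv h1.symm
  · intro f g
    exact Subtype.ext (hcomm f.1 f.2 g.1 g.2)
  · intro f hf
    have hf1 : (f : Module.End (ZMod q) V) ≠ 0 := fun h => hf (Subtype.ext h)
    have hfi := hinj f.1 f.2 hf1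
    have hmi : Function.Injective (fun g : K => f * g) := by
      intro g g' hgg
      apply Subtype.ext
      apply LinearMap.ext
      intro v
      apply hfi
      have := congrArg (fun z : K => (z : Module.End (ZMod q) V) v) hgg
      simpa using this
    obtain ⟨g, hg⟩ := (Finite.injective_iff_surjective.1 hmi) 1
    exact ⟨g, hg⟩

theorem finite_of_subalgebra [Finite V]
    (K : Subalgebra (ZMod q) (Module.End (ZMod q) V)) : Finite K := by
  have hfinE : Finite (Module.End (ZMod q) V) :=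
    Finite.of_injective (fun f : Module.End (ZMod q) V => (f : V → V)) DFunLike.coe_injective
  exact Finite.of_injective (fun f : K => (f : Module.End (ZMod q) V)) Subtype.val_injective

/-- In a "field" subalgebra `K`, `toE ρ g ∈ K` implies `g ^ (|K| - 1) = 1`. -/
theorem pow_card_sub_one_of_mem [Finite V] [Nontrivial V] (ρ : G →* (V ≃ₗ[ZMod q] V))
    (hinj : Function.Injective ρ) (K : Subalgebra (ZMod q) (Module.End (ZMod q) V))
    (hK : IsFld K) (g : G) (hg : toE ρ g ∈ K) : g ^ (Nat.card K - 1) = 1 := by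
  have hF := isField_of_isFld K hK
  have hfinK := finite_of_subalgebra K
  have hne : (⟨toE ρ g, hg⟩ : K) ≠ 0 := by
    intro h
    exact toE_ne_zero ρ g (congrArg Subtype.val h)
  have hpow := pow_card_sub_one_of_isField hF (⟨toE ρ g, hg⟩ : K) hne
  have hpow' : toE ρ g ^ (Nat.card K - 1) = 1 := by
    have := congrArg (fun f : K => (f : Module.End (ZMod q) V)) hpow
    simpa using this
  apply toE_injective ρ hinj
  rw [toE_pow, hpow', toE_one]

end tools

/-- [E26], part (A). -/
theorem e26_partA (hAbn : PkgAbn.{u, v}) (hDeg : PkgDeg.{u, v})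
    {q : ℕ} [Fact q.Prime] {V : Type u} [AddCommGroup V] [Module (ZMod q) V] [Finite V]
    [Nontrivial V] {G : Type v} [Group G] [Finite G] (ρ : G →* (V ≃ₗ[ZMod q] V))
    (hinj : Function.Injective ρ) (htr : Tr ρ) (hni : NI ρ)
    (hcard : Nat.card V = 64) (A : Subgroup G) (hAn : A.Normal) (hAb : Ab A) :
    (Nat.card A = 1 ∨ Nat.card A = 3 ∨ Nat.card A = 7) ∧
    (Nat.card A = 3 → Nat.card (KA ρ A) = 4) ∧ (Nat.card A = 7 → Nat.card (KA ρ A) = 8) := by
  obtain ⟨hcyc, hfld, hlt⟩ := hAbn ρ hinj htr A hAn hAb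
  have hnirr : ¬ Irr ρ A := fun hirr => hni ⟨A, hAn, hcyc, hirr⟩
  have hlt' := hlt hnirr
  rw [hcard] at hlt'
  have hcl2 : Cl2 A := by
    intro a ha b hb c _
    have h1 : cm a b = 1 := by
      unfold cm
      rw [hAb a ha b hb]; group
    rw [h1, one_mul, mul_one]
  have h3 : ∀ a ∈ A, (∀ b ∈ A, a * b = b * a) → toE ρ a ∈ KA ρ A :=
    fun a ha _ => Algebra.subset_adjoin ⟨a, ha, rfl⟩
  have h4 : ∀ a ∈ A, ∀ f ∈ KA ρ A, toE ρ a * f = f * toE ρ a :=
    fun a ha f hf => hfld.1 _ (Algebra.subset_adjoin ⟨a, ha, rfl⟩) f hf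
  obtain ⟨m, hm, -⟩ := hDeg ρ hinj A (KA ρ A) hfld hcl2 h3 h4
  rw [hcard] at hm
  have hpow : ∀ a ∈ A, a ^ (Nat.card (KA ρ A) - 1) = 1 := fun a ha =>
    pow_card_sub_one_of_mem ρ hinj (KA ρ A) hfld a (Algebra.subset_adjoin ⟨a, ha, rfl⟩)
  have hdvdA : Nat.card A ∣ Nat.card (KA ρ A) - 1 := by
    obtain ⟨g, hg⟩ := hcyc.exists_generator
    have hord : orderOf g = Nat.card A := orderOf_eq_card_of_forall_mem_zpowers hg
    rw [← hord]
    apply orderOf_dvd_of_pow_eq_one
    apply Subtype.ext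
    rw [Subgroup.coe_pow]
    exact hpow g.1 g.2
  generalize Nat.card (KA ρ A) = k at hm hlt' hdvdA ⊢
  have hk248 : k = 2 ∨ k = 4 ∨ k = 8 := by
    have hm0 : m ≠ 0 := by
      rintro rfl
      simp at hm
    have hdvd : k ∣ 2 ^ 6 := by
      have h1 : k ∣ k ^ m := dvd_pow_self k hm0
      rw [← hm] at h1
      exact h1
    obtain ⟨j, hj, rfl⟩ := (Nat.dvd_prime_pow Nat.prime_two).mp hdvd
    rw [← pow_mul] at hm
    have hjm : j * m = 6 := by
      have h64 : (2 : ℕ) ^ (j * m) = 2 ^ 6 := by rw [← hm]; norm_num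
      exact Nat.pow_right_injective (le_refl 2) h64
    have hj6 : j ≠ 6 := by
      rintro rfl
      norm_num at hlt'
    have hj0 : j ≠ 0 := by rintro rfl; simp at hjm
    have hjd : j ∣ 6 := ⟨m, hjm.symm⟩
    interval_cases j
    · exact absurd rfl hj0
    · left; rfl
    · right; left; rfl
    · right; right; rfl
    · exfalso; revert hjd; decide
    · exfalso; revert hjd; decide
    · exact absurd rfl hj6
  rcases hk248 with rfl | rfl | rfl
  · have h1 : Nat.card A = 1 := Nat.dvd_one.mp hdvdA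
    exact ⟨Or.inl h1, fun h => by omega, fun h => by omega⟩
  · have h1 : Nat.card A = 1 ∨ Nat.card A = 3 := (Nat.dvd_prime Nat.prime_three).mp hdvdA
    rcases h1 with h1 | h1
    · exact ⟨Or.inl h1, fun h => by omega, fun h => by omega⟩
    · exact ⟨Or.inr (Or.inl h1), fun _ => rfl, fun h => by omega⟩
  · have h1 : Nat.card A = 1 ∨ Nat.card A = 7 :=
      (Nat.dvd_prime (by norm_num : Nat.Prime 7)).mp hdvdA
    rcases h1 with h1 | h1
    · exact ⟨Or.inl h1, fun h => by omega, fun h => by omega⟩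
    · exact ⟨Or.inr (Or.inr h1), fun h => by omega, fun _ => rfl⟩

end Cfsg.Agent.Lib.Helper15.HUPT
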